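import Mathlib
import Cfsg.Agent.H703.KS.Val
import Cfsg.Agent.H162.KS.Desc

/-!
# The general parity lemma: from the determinant to the sign (helper988)

`K` unramified at `p`, `z ∈ ℂ^×`, `τ z = ε(τ) z`, `ε(τ) = ± 1`, for all `τ ∈ Aut(ℂ/K)`, `ε(τ)` determined by `τ` on the roots
of unity of order `p ^ a`, `z² = p ^ n u`.

* `end_odd` : `p` odd, `τ` generates: `ε(τ) = (-1) ^ n`;
* `end_two` : `p = 2`, `τ ζ = ζ ^ 5`: `ε(τ) = (-1) ^ n`.
-/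

set_option autoImplicit false

open Cfsg

namespace Cfsg.Agent.H988.PR

open Cfsg.Agent.H703.KS Cfsg.Agent.H162.KS

variable {K : Type*} [Field K]

section Val

variable {O : Subring K} {π : K}

theorem even_of_sq (hπ : π ∈ O) (hπ' : π⁻¹ ∉ O)
    (hfac : ∀ z : K, z ≠ 0 → ∃ (n : ℤ) (u : K), u ∈ O ∧ u⁻¹ ∈ O ∧ z = π ^ n * u) {n : ℤ} {u s k : K} (hu : Un O u)
    (hs : Un O s) (hk : k ≠ 0) (h : π ^ n * u = k ^ 2 * s) : Even n := by
  have hπ0 : π ≠ 0 := by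
    rintro rfl
    exact hπ' (by simp)
  obtain ⟨m, w, h1, h2, rfl⟩ := hfac k hk
  have hw0 : w ≠ 0 := by
    rintro rfl
    exact hk (mul_zero _)
  have h3 : π ^ (n - 2 * m) = w ^ 2 * s * u⁻¹ := by
    have hu0 := hu.2.2
    rw [zpow_sub₀ hπ0, div_eq_iff (zpow_ne_zero _ hπ0)]
    have h4 : π ^ n = (π ^ m * w) ^ 2 * s * u⁻¹ := by rw [← h, mul_inv_cancel_right₀ hu0]
    rw [h4, two_mul, zpow_add₀ hπ0]
    ring
  have h4 := zpow_eq_zero_of_unit hπ hπ' (k := n - 2 * m) (by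
    rw [h3]
    exact ((Un.pow ⟨h1, h2, hw0⟩ 2).mul hs).mul hu.inv)
  exact ⟨m, by omega⟩

end Val

variable [Algebra K ℂ]

/-- a number whose square is in `K`, fixed by all automorphisms -/
theorem mem_of_sq {z : ℂ} {c : K} (hc : z ^ 2 = algebraMap K ℂ c) (h : ∀ τ : ℂ ≃ₐ[K] ℂ, τ z = z) :
    ∃ k : K, algebraMap K ℂ k = z := by
  refine mem_of_fixed ⟨Polynomial.X ^ 2 - Polynomial.C c, Polynomial.X_pow_sub_C_ne_zero two_pos _, ?_⟩ h
  rw [map_sub, map_pow, Polynomial.aeval_X, Polynomial.aeval_C, hc, sub_self]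

/-- the sign character as a homomorphism -/
def epsHom {z : ℂ} (hz : z ≠ 0) (ε : (ℂ ≃ₐ[K] ℂ) → ℤˣ) (hε : ∀ τ, τ z = ((ε τ : ℤ) : ℂ) * z) :
    (ℂ ≃ₐ[K] ℂ) →* ℤˣ :=
  MonoidHom.mk' ε fun σ τ => by
    have h1 : (σ * τ) z = σ (τ z) := rfl
    rw [hε, hε, map_mul, map_intCast, hε, ← mul_assoc] at h1
    have h2 := mul_right_cancel₀ hz h1
    apply Units.ext
    rw [Units.val_mul, mul_comm]
    exact_mod_cast h2

theorem epsHom_apply {z : ℂ} (hz : z ≠ 0) (ε : (ℂ ≃ₐ[K] ℂ) → ℤˣ) (hε : ∀ τ, τ z = ((ε τ : ℤ) : ℂ) * z)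
    (τ : ℂ ≃ₐ[K] ℂ) : epsHom hz ε hε τ = ε τ := rfl

/-- the general step: `z / g` is in `K` -/
theorem step {O : Subring K} {p : ℕ} (hp0 : (p : K) ∈ O) (hp1 : (p : K)⁻¹ ∉ O)
    (hfac : ∀ z : K, z ≠ 0 → ∃ (n : ℤ) (u : K), u ∈ O ∧ u⁻¹ ∈ O ∧ z = (p : K) ^ n * u) {z g : ℂ} (hz : z ≠ 0)
    (hg : g ≠ 0) (h : ∀ τ : ℂ ≃ₐ[K] ℂ, ∃ s : ℤˣ, τ z = ((s : ℤ) : ℂ) * z ∧ τ g = ((s : ℤ) : ℂ) * g) {n : ℤ} {u : K}
    (hu : Un O u) (hn : z ^ 2 = algebraMap K ℂ ((p : K) ^ n * u)) {b : ℤ} {s : ℤˣ}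
    (hb : g ^ 2 = ((s : ℤ) : ℂ) * (p : ℂ) ^ b) : Even (n - b) := by
  have hK0 : CharZero K := (algebraMap K ℂ).charZero
  have hpK : (p : K) ≠ 0 := by
    intro h0
    exact hp1 (by rw [h0, inv_zero]; exact O.zero_mem)
  have hpC : (p : ℂ) ≠ 0 := by
    intro h0
    apply hpK
    exact_mod_cast h0
  have hs1 : ((s : ℤ) : K) * ((s : ℤ) : K) = 1 := by
    rw [← Int.cast_mul, ← Units.val_mul, ← sq, Int.units_sq]
    simp
  have hs0 : ((s : ℤ) : K) ≠ 0 := left_ne_zero_of_mul_eq_one hs1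
  have hsi : ((s : ℤ) : K)⁻¹ = ((s : ℤ) : K) := inv_eq_of_mul_eq_one_left hs1
  have hfix : ∀ τ : ℂ ≃ₐ[K] ℂ, τ (z / g) = z / g := by
    intro τ
    obtain ⟨s, h1, h2⟩ := h τ
    have hs : ((s : ℤ) : ℂ) ≠ 0 := by exact_mod_cast s.ne_zero
    rw [map_div₀, h1, h2, mul_div_mul_left _ _ hs]
  have hsq : (z / g) ^ 2 = algebraMap K ℂ ((p : K) ^ (n - b) * u * ((s : ℤ) : K)) := by
    rw [div_pow, hn, hb, map_mul, map_mul, map_mul, map_zpow₀, map_zpow₀, map_natCast, map_intCast, zpow_sub₀ hpC]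
    have h3 : ((s : ℤ) : ℂ) * ((s : ℤ) : ℂ) = 1 := by
      rw [← Int.cast_mul, ← Units.val_mul, ← sq, Int.units_sq]
      simp
    have hs : ((s : ℤ) : ℂ) ≠ 0 := by exact_mod_cast s.ne_zero
    field_simp
    rw [sq, h3, mul_one]
  obtain ⟨k, hk⟩ := mem_of_sq hsq hfix
  have hk0 : k ≠ 0 := by
    rintro rfl
    rw [map_zero] at hk
    exact div_ne_zero hz hg hk.symm
  have h4 : (p : K) ^ (n - b) * u = k ^ 2 * ((s : ℤ) : K) := by
    have h5 : k ^ 2 = (p : K) ^ (n - b) * u * ((s : ℤ) : K) := by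
      apply (algebraMap K ℂ).injective
      rw [map_pow, hk, hsq]
    rw [h5, mul_assoc, hs1, mul_one]
  refine even_of_sq hp0 hp1 hfac hu ?_ hk0 h4
  exact ⟨intCast_mem O _, by rw [hsi]; exact intCast_mem O _, hs0⟩

section Odd

/-- the quadratic character -/
noncomputable def qc (p : ℕ) [Fact p.Prime] : MulChar (ZMod p) ℂ := (quadraticChar (ZMod p)).ringHomComp (Int.castRingHom ℂ)

theorem qc_ne_one {p : ℕ} [Fact p.Prime] (hp2 : p ≠ 2) : qc p ≠ 1 := by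
  have h1 : quadraticChar (ZMod p) ≠ 1 := quadraticChar_ne_one (by rw [ZMod.ringChar_zmod_n]; exact hp2)
  exact (MulChar.ringHomComp_ne_one_iff (Int.cast_injective (α := ℂ))).2 h1

theorem qc_quad (p : ℕ) [Fact p.Prime] : (qc p).IsQuadratic :=
  (quadraticChar_isQuadratic (ZMod p)).comp _

variable {p a : ℕ} [Fact p.Prime]

/-- the quadratic character of the units modulo `p ^ a` -/
noncomputable def Q (ha : a ≠ 0) : (ZMod (p ^ a))ˣ →* ℤˣ :=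
  (quadraticChar (ZMod p)).toUnitHom.comp (ZMod.unitsMap (dvd_pow_self p ha))

theorem exists_Q (hp2 : p ≠ 2) (ha : a ≠ 0) : ∃ x : (ZMod (p ^ a))ˣ, Q ha x = -1 := by
  obtain ⟨b, hb⟩ := quadraticChar_exists_neg_one' (F := ZMod p) (by rw [ZMod.ringChar_zmod_n]; exact hp2)
  obtain ⟨x, hx⟩ := ZMod.unitsMap_surjective (dvd_pow_self p ha) b
  refine ⟨x, ?_⟩
  apply Units.ext
  rw [Q, MonoidHom.comp_apply, hx, MulChar.coe_toUnitHom, hb]
  rfl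

/-- the Gauss sum -/
noncomputable def gs {ζ : ℂ} (h : ζ ^ p = 1) : ℂ := gaussSum (qc p) (AddChar.zmodChar p h)

theorem gs_ne_zero (hp2 : p ≠ 2) {ζ : ℂ} (h : IsPrimitiveRoot ζ p) : gs h.pow_eq_one ≠ 0 := by
  have hp := (Fact.out : p.Prime)
  refine gaussSum_ne_zero_of_nontrivial ?_ (qc_ne_one hp2) (AddChar.zmodChar_primitive_of_primitive_root p h)
  rw [ZMod.card]
  exact_mod_cast hp.ne_zero

theorem gs_sq (hp2 : p ≠ 2) {ζ : ℂ} (h : IsPrimitiveRoot ζ p) :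
    ∃ s : ℤˣ, gs h.pow_eq_one ^ 2 = ((s : ℤ) : ℂ) * (p : ℂ) ^ (1 : ℤ) := by
  refine ⟨(quadraticChar (ZMod p)).toUnitHom (-1), ?_⟩
  have h1 : gs h.pow_eq_one ^ 2 = qc p (-1) * (Fintype.card (ZMod p) : ℂ) :=
    gaussSum_sq (qc_ne_one hp2) (qc_quad p) (AddChar.zmodChar_primitive_of_primitive_root p h)
  rw [ZMod.card] at h1
  rw [h1, zpow_one, MulChar.coe_toUnitHom]
  rfl

theorem aut_gs (ha : a ≠ 0) {ζ : ℂ} (hζ : IsPrimitiveRoot ζ (p ^ a)) {ξ : ℂ}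
    (hξ : ξ = ζ ^ p ^ (a - 1)) (hξ' : ξ ^ p = 1) (τ : ℂ ≃ₐ[K] ℂ) :
    τ (gs hξ') = ((Q ha (hζ.autToPow K τ) : ℤ) : ℂ) * gs hξ' := by
  have h1 : ∀ y : ZMod p, τ (AddChar.zmodChar p hξ' y) =
      (AddChar.zmodChar p hξ').mulShift (ZMod.unitsMap (dvd_pow_self p ha) (hζ.autToPow K τ) : (ZMod p)ˣ) y := by
    intro y
    have h0 : τ ξ = ξ ^ (hζ.autToPow K τ : ZMod (p ^ a)).val := by
      rw [hξ, map_pow, ← hζ.autToPow_spec K τ, ← pow_mul, ← pow_mul, mul_comm]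
    rw [AddChar.mulShift_apply, AddChar.zmodChar_apply, map_pow, h0]
    have h2 : ((ZMod.unitsMap (dvd_pow_self p ha) (hζ.autToPow K τ) : (ZMod p)ˣ) : ZMod p) =
        (((hζ.autToPow K τ : ZMod (p ^ a)).val : ℕ) : ZMod p) := by
      rw [ZMod.unitsMap_val, ZMod.natCast_val]
    have h3 : (((hζ.autToPow K τ : ZMod (p ^ a)).val : ℕ) : ZMod p) * y =
        (((hζ.autToPow K τ : ZMod (p ^ a)).val * y.val : ℕ) : ZMod p) := by
      rw [Nat.cast_mul, ZMod.natCast_zmod_val]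
    rw [h2, h3, AddChar.zmodChar_apply', ← pow_mul]
  have h2 : ∀ y : ZMod p, τ (qc p y) = qc p y := fun y => by
    show τ ((quadraticChar (ZMod p) y : ℤ) : ℂ) = _
    rw [map_intCast]
    rfl
  have h3 : τ (gs hξ') = gaussSum (qc p) ((AddChar.zmodChar p hξ').mulShift
      (ZMod.unitsMap (dvd_pow_self p ha) (hζ.autToPow K τ) : (ZMod p)ˣ)) := by
    rw [gs, gaussSum, gaussSum, map_sum]
    refine Finset.sum_congr rfl fun y _ => ?_
    rw [map_mul, h1, h2]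
  rw [h3, gaussSum_mulShift_eq, (qc_quad p).inv]
  rfl

/-- **`p` odd** -/
theorem end_odd {O : Subring K} (hp2 : p ≠ 2) (hp0 : (p : K) ∈ O) (hp1 : (p : K)⁻¹ ∉ O)
    (hfac : ∀ z : K, z ≠ 0 → ∃ (n : ℤ) (u : K), u ∈ O ∧ u⁻¹ ∈ O ∧ z = (p : K) ^ n * u) (ha : a ≠ 0) {ζ : ℂ}
    (hζ : IsPrimitiveRoot ζ (p ^ a)) {z : ℂ} (hz : z ≠ 0) (ε : (ℂ ≃ₐ[K] ℂ) → ℤˣ)
    (hε : ∀ τ, τ z = ((ε τ : ℤ) : ℂ) * z) (hdep : ∀ τ τ' : ℂ ≃ₐ[K] ℂ, τ ζ = τ' ζ → ε τ = ε τ') {c : ℂ ≃ₐ[K] ℂ}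
    (hc : ∀ x : (ZMod (p ^ a))ˣ, x ∈ Subgroup.zpowers (hζ.autToPow K c)) {n : ℤ} {u : K} (hu : Un O u)
    (hn : z ^ 2 = algebraMap K ℂ ((p : K) ^ n * u)) : ε c = (-1) ^ n := by
  have hp := (Fact.out : p.Prime)
  have hgen : ∀ τ : ℂ ≃ₐ[K] ℂ, ∃ k : ℤ, hζ.autToPow K τ = (hζ.autToPow K c) ^ k ∧ ε τ = (ε c) ^ k := by
    intro τ
    obtain ⟨k, hk⟩ := Subgroup.mem_zpowers_iff.1 (hc (hζ.autToPow K τ))
    refine ⟨k, hk.symm, ?_⟩
    have h1 : ε (c ^ k) = (ε c) ^ k := by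
      have := map_zpow (epsHom hz ε hε) c k
      exact this
    rw [← h1]
    apply hdep
    rw [← hζ.autToPow_spec K τ, ← hζ.autToPow_spec K (c ^ k), map_zpow, hk]
  have hξ : IsPrimitiveRoot (ζ ^ p ^ (a - 1)) p := hζ.pow (pow_pos hp.pos a) (by
    rw [← pow_succ, Nat.sub_add_cancel (Nat.one_le_iff_ne_zero.2 ha)])
  have hQc : Q ha (hζ.autToPow K c) = -1 := by
    obtain ⟨x, hx⟩ := exists_Q (a := a) hp2 ha
    obtain ⟨k, rfl⟩ := Subgroup.mem_zpowers_iff.1 (hc x)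
    rw [map_zpow] at hx
    rcases Int.units_eq_one_or (Q ha (hζ.autToPow K c)) with h1 | h1
    · rw [h1, one_zpow] at hx
      exact absurd hx (by decide)
    · exact h1
  rcases Int.units_eq_one_or (ε c) with h1 | h1
  · have h2 : ∀ τ : ℂ ≃ₐ[K] ℂ, τ z = z := by
      intro τ
      obtain ⟨k, -, h3⟩ := hgen τ
      rw [hε, h3, h1, one_zpow]
      simp
    have h3 := step hp0 hp1 hfac hz one_ne_zero (fun τ => ⟨1, by rw [h2]; simp, by simp⟩) hu hn (b := 0) (s := 1)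
      (by simp)
    rw [h1, sub_zero] at *
    rw [h3.neg_one_zpow]
  · obtain ⟨s, hs⟩ := gs_sq hp2 hξ
    have h3 := step hp0 hp1 hfac hz (gs_ne_zero hp2 hξ) (fun τ => ⟨ε τ, hε τ, by
      rw [aut_gs ha hζ rfl hξ.pow_eq_one τ]
      obtain ⟨k, h4, h5⟩ := hgen τ
      rw [h4, map_zpow, hQc, h5, h1]⟩) hu hn (b := 1) (s := s) hs
    rw [h1]
    have h4 : Odd n := by
      obtain ⟨m, hm⟩ := h3
      exact ⟨m, by omega⟩
    rw [h4.neg_one_zpow]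

end Odd

section Two

variable {a : ℕ}

/-- the units congruent to 1 modulo 4 are the powers of 5 -/
theorem mem_zpowers_five (ha : 2 ≤ a) {x : (ZMod (2 ^ a))ˣ} (hx : (x : ZMod (2 ^ a)) = 5) {y : (ZMod (2 ^ a))ˣ}
    (hy : ZMod.unitsMap (pow_dvd_pow 2 ha : 2 ^ 2 ∣ 2 ^ a) y = 1) : y ∈ Subgroup.zpowers x := by
  set f := ZMod.unitsMap (pow_dvd_pow 2 ha : 2 ^ 2 ∣ 2 ^ a) with hf
  have h1 : Nat.card (Subgroup.zpowers x) = 2 ^ (a - 2) := by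
    obtain ⟨k, rfl⟩ := Nat.exists_eq_add_of_le' ha
    rw [Nat.card_zpowers, ← orderOf_units, hx, ZMod.orderOf_five, Nat.add_sub_cancel]
  have h2 : Nat.card f.ker * 2 = 2 ^ (a - 2) * 2 := by
    have h3 := Subgroup.card_mul_index f.ker
    rw [Subgroup.index_ker, MonoidHom.range_eq_top.2 (ZMod.unitsMap_surjective _), Subgroup.card_top,
      Nat.card_eq_fintype_card (α := (ZMod (2 ^ 2))ˣ), Nat.card_eq_fintype_card (α := (ZMod (2 ^ a))ˣ),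
      ZMod.card_units_eq_totient, ZMod.card_units_eq_totient, Nat.totient_prime_pow Nat.prime_two (by norm_num),
      Nat.totient_prime_pow Nat.prime_two (by omega)] at h3
    obtain ⟨k, rfl⟩ := Nat.exists_eq_add_of_le' ha
    rw [Nat.add_sub_cancel, ← pow_succ]
    have e : k + 2 - 1 = k + 1 := by omega
    rw [e] at h3
    simpa using h3
  have h3 : Subgroup.zpowers x ≤ f.ker := by
    rw [Subgroup.zpowers_le, MonoidHom.mem_ker]
    apply Units.ext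
    rw [hf, ZMod.unitsMap_val, hx]
    have h4 : (ZMod.castHom (pow_dvd_pow 2 ha : 2 ^ 2 ∣ 2 ^ a) (ZMod (2 ^ 2))) (5 : ZMod (2 ^ a)) = 1 := by
      rw [map_ofNat]
      rfl
    exact h4
  have h4 : Subgroup.zpowers x = f.ker := by
    refine Subgroup.eq_of_le_of_card_ge h3 ?_
    rw [h1]
    exact (Nat.eq_of_mul_eq_mul_right two_pos h2).le
  rw [h4]
  exact hy

theorem unitsMap_neg_one (ha : 2 ≤ a) : ZMod.unitsMap (pow_dvd_pow 2 ha : 2 ^ 2 ∣ 2 ^ a) (-1) = -1 := by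
  apply Units.ext
  rw [ZMod.unitsMap_val]
  have h : (ZMod.castHom (pow_dvd_pow 2 ha : 2 ^ 2 ∣ 2 ^ a) (ZMod (2 ^ 2))) (-1 : ZMod (2 ^ a)) = -1 := by
    rw [map_neg, map_one]
  exact h

/-- **`p = 2`** -/
theorem end_two {O : Subring K} (hp0 : ((2 : ℕ) : K) ∈ O) (hp1 : ((2 : ℕ) : K)⁻¹ ∉ O)
    (hfac : ∀ z : K, z ≠ 0 → ∃ (n : ℤ) (u : K), u ∈ O ∧ u⁻¹ ∈ O ∧ z = ((2 : ℕ) : K) ^ n * u) (ha : 3 ≤ a) {ζ : ℂ}
    (hζ : IsPrimitiveRoot ζ (2 ^ a)) {z : ℂ} (hz : z ≠ 0) (ε : (ℂ ≃ₐ[K] ℂ) → ℤˣ)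
    (hε : ∀ τ, τ z = ((ε τ : ℤ) : ℂ) * z) (hdep : ∀ τ τ' : ℂ ≃ₐ[K] ℂ, τ ζ = τ' ζ → ε τ = ε τ') {c : ℂ ≃ₐ[K] ℂ}
    (hc : c ζ = ζ ^ 5) {n : ℤ} {u : K} (hu : Un O u)
    (hn : z ^ 2 = algebraMap K ℂ (((2 : ℕ) : K) ^ n * u)) : ε c = (-1) ^ n := by
  have ha2 : 2 ≤ a := by omega
  set φ := hζ.autToPow K with hφ
  have hζ0 : ζ ≠ 0 := hζ.ne_zero (pow_ne_zero _ two_ne_zero)
  have hφeq : ∀ {τ τ' : ℂ ≃ₐ[K] ℂ}, φ τ = φ τ' → τ ζ = τ' ζ := by
    intro τ τ' h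
    rw [← hζ.autToPow_spec K τ, ← hζ.autToPow_spec K τ', ← hφ, h]
  have h5 : ((φ c : (ZMod (2 ^ a))ˣ) : ZMod (2 ^ a)) = 5 := by
    have h1 : ζ ^ ((φ c : (ZMod (2 ^ a))ˣ) : ZMod (2 ^ a)).val = ζ ^ 5 := by
      rw [hφ, hζ.autToPow_spec K c, hc]
    have hne : NeZero (2 ^ a) := ⟨pow_ne_zero _ two_ne_zero⟩
    have h8 : 2 ^ 3 ≤ 2 ^ a := Nat.pow_le_pow_right two_pos ha
    have h2 := hζ.pow_inj (ZMod.val_lt _) (by omega) h1
    rw [← ZMod.natCast_zmod_val ((φ c : (ZMod (2 ^ a))ˣ) : ZMod (2 ^ a)), h2]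
    norm_num
  set f := ZMod.unitsMap (pow_dvd_pow 2 ha2 : 2 ^ 2 ∣ 2 ^ a) with hf
  have hmem : ∀ {x : (ZMod (2 ^ a))ˣ}, f x = 1 → ∃ k : ℤ, φ c ^ k = x := fun hx =>
    Subgroup.mem_zpowers_iff.1 (mem_zpowers_five ha2 h5 hx)
  have hf4 : ∀ x : (ZMod (2 ^ a))ˣ, f x = 1 ∨ f x = -1 := by
    intro x
    have : ∀ y : (ZMod (2 ^ 2))ˣ, y = 1 ∨ y = -1 := by decide
    exact this _
  -- the root of unity of order 8
  obtain ⟨x, hx⟩ : ∃ x : ℂ, x = ζ ^ 2 ^ (a - 3) := ⟨_, rfl⟩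
  have hx8 : IsPrimitiveRoot x 8 := by
    rw [hx]
    refine hζ.pow (pow_pos two_pos a) ?_
    have h1 : (8 : ℕ) = 2 ^ 3 := by norm_num
    rw [h1, ← pow_add, Nat.sub_add_cancel ha]
  have hx4 : x ^ 4 = -1 := by
    have h1 : (x ^ 4 - 1) * (x ^ 4 + 1) = 0 := by
      have := hx8.pow_eq_one
      linear_combination this
    rcases mul_eq_zero.1 h1 with h2 | h2
    · exact absurd (sub_eq_zero.1 h2) (hx8.pow_ne_one_of_pos_of_lt (by norm_num) (by norm_num))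
    · exact eq_neg_of_add_eq_zero_left h2
  have hcx : c x = -x := by
    rw [hx, map_pow, hc, ← hx]
    have h1 : (ζ ^ 5) ^ 2 ^ (a - 3) = x ^ 5 := by rw [hx, ← pow_mul, ← pow_mul, mul_comm]
    rw [h1]
    linear_combination x * hx4
  have hr0 : x - x ^ 3 ≠ 0 := by
    intro h
    have h1 : (x - x ^ 3) ^ 2 = 2 := by linear_combination (x ^ 2 - 2) * hx4
    rw [h] at h1
    norm_num at h1
  have hx0 : x ≠ 0 := hx8.ne_zero (by norm_num)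
  have hτx : ∀ {τ τ' : ℂ ≃ₐ[K] ℂ}, τ ζ = τ' ζ → τ x = τ' x := by
    intro τ τ' h
    rw [hx, map_pow, map_pow, h]
  -- the general end
  have main : ∀ b : ℂ ≃ₐ[K] ℂ, (∀ τ : ℂ ≃ₐ[K] ℂ, ∃ j k : ℤ, φ τ = φ (b ^ j * c ^ k)) →
      ∀ g : ℂ, g ≠ 0 → (∀ τ τ' : ℂ ≃ₐ[K] ℂ, τ x = τ' x → τ g = τ' g) → b g = ((ε b : ℤ) : ℂ) * g →
      c g = ((ε c : ℤ) : ℂ) * g → ∀ τ : ℂ ≃ₐ[K] ℂ, ∃ s : ℤˣ, τ z = ((s : ℤ) : ℂ) * z ∧ τ g = ((s : ℤ) : ℂ) * g := by
    intro b hb g hg hgd hbg hcg τ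
    let S : Subgroup (ℂ ≃ₐ[K] ℂ) :=
      { carrier := {τ | τ g = ((epsHom hz ε hε τ : ℤ) : ℂ) * g}
        one_mem' := by
          show (1 : ℂ ≃ₐ[K] ℂ) g = ((epsHom hz ε hε 1 : ℤ) : ℂ) * g
          rw [map_one]
          simp
        mul_mem' := by
          intro σ τ hσ hτ
          have hσ' : σ g = ((epsHom hz ε hε σ : ℤ) : ℂ) * g := hσ
          have hτ' : τ g = ((epsHom hz ε hε τ : ℤ) : ℂ) * g := hτ
          show (σ * τ) g = ((epsHom hz ε hε (σ * τ) : ℤ) : ℂ) * g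
          have h1 : (σ * τ) g = σ (τ g) := rfl
          rw [h1, hτ', map_mul, map_intCast, hσ', map_mul, Units.val_mul, Int.cast_mul]
          ring
        inv_mem' := by
          intro σ hσ
          have hσ' : σ g = ((epsHom hz ε hε σ : ℤ) : ℂ) * g := hσ
          show σ⁻¹ g = ((epsHom hz ε hε σ⁻¹ : ℤ) : ℂ) * g
          have h1 : σ⁻¹ (σ g) = g := by
            show (σ⁻¹ * σ) g = g
            rw [inv_mul_cancel]
            rfl
          rw [hσ', map_mul, map_intCast] at h1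
          rw [map_inv, Int.units_inv_eq_self]
          calc σ⁻¹ g = ((epsHom hz ε hε σ : ℤ) : ℂ) * (((epsHom hz ε hε σ : ℤ) : ℂ) * σ⁻¹ g) := by
                rw [← mul_assoc, ← Int.cast_mul, ← Units.val_mul, ← sq, Int.units_sq]
                simp
            _ = _ := by rw [h1] }
    obtain ⟨j, k, hjk⟩ := hb τ
    have hS : b ^ j * c ^ k ∈ S := S.mul_mem (S.zpow_mem hbg j) (S.zpow_mem hcg k)
    have hS' : (b ^ j * c ^ k) g = ((ε (b ^ j * c ^ k) : ℤ) : ℂ) * g := hS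
    refine ⟨ε τ, hε τ, ?_⟩
    rw [hgd τ (b ^ j * c ^ k) (hτx (hφeq hjk)), hS', hdep τ (b ^ j * c ^ k) (hφeq hjk)]
  -- existence of `b`
  have hb : ∃ b : ℂ ≃ₐ[K] ℂ, (∀ τ : ℂ ≃ₐ[K] ℂ, ∃ j k : ℤ, φ τ = φ (b ^ j * c ^ k)) ∧ (b = 1 ∨ b x = x⁻¹) := by
    by_cases h : ∃ τ0, f (φ τ0) = -1
    · obtain ⟨τ0, h0⟩ := h
      obtain ⟨k0, hk0⟩ := hmem (x := -φ τ0) (by
        have h1 : f (-φ τ0) = f (-1) * f (φ τ0) := by rw [← map_mul, neg_one_mul]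
        have h2 : f (-1) = -1 := unitsMap_neg_one ha2
        rw [h1, h0, h2]
        decide)
      have hφb : φ (τ0 * c ^ (-k0)) = -1 := by
        have h1 : φ τ0 = -(φ c ^ k0) := by rw [hk0, neg_neg]
        rw [map_mul, map_zpow, h1, neg_mul, ← zpow_add, add_neg_cancel, zpow_zero]
      refine ⟨τ0 * c ^ (-k0), fun τ => ?_, Or.inr ?_⟩
      · rcases hf4 (φ τ) with h1 | h1
        · obtain ⟨k, hk⟩ := hmem h1
          exact ⟨0, k, by rw [zpow_zero, one_mul, map_zpow, hk]⟩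
        · obtain ⟨k, hk⟩ := hmem (x := -φ τ) (by
            have h2 : f (-φ τ) = f (-1) * f (φ τ) := by rw [← map_mul, neg_one_mul]
            have h3 : f (-1) = -1 := unitsMap_neg_one ha2
            rw [h2, h1, h3]
            decide)
          refine ⟨1, k, ?_⟩
          rw [zpow_one, map_mul, hφb, map_zpow, hk]
          simp
      · have h1 : (τ0 * c ^ (-k0)) ζ * ζ = 1 := by
          rw [← hζ.autToPow_spec K (τ0 * c ^ (-k0)), ← hφ, hφb]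
          have h2 : ((-1 : (ZMod (2 ^ a))ˣ) : ZMod (2 ^ a)).val + 1 = 2 ^ a := by
            rw [Units.val_neg, Units.val_one]
            obtain ⟨m, hm⟩ := Nat.exists_eq_succ_of_ne_zero (pow_ne_zero a two_ne_zero : (2 : ℕ) ^ a ≠ 0)
            rw [hm, ZMod.val_neg_one]
          rw [← pow_succ, h2, hζ.pow_eq_one]
        rw [hx, map_pow, eq_inv_of_mul_eq_one_left h1, inv_pow]
    · have h1 : ∀ τ, f (φ τ) = 1 := fun τ => (hf4 _).resolve_right fun h2 => h ⟨τ, h2⟩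
      refine ⟨1, fun τ => ?_, Or.inl rfl⟩
      obtain ⟨k, hk⟩ := hmem (h1 τ)
      exact ⟨0, k, by rw [zpow_zero, one_mul, map_zpow, hk]⟩
  obtain ⟨b, hb1, hb2⟩ := hb
  have hxi : x⁻¹ = - x ^ 3 := by
    rw [inv_eq_iff_eq_inv, eq_comm]
    refine inv_eq_of_mul_eq_one_left ?_
    linear_combination -hx4
  have hx2 : (x - x ^ 3) ^ 2 = 2 := by linear_combination (x ^ 2 - 2) * hx4
  have hbx : ε b = -1 → b x = -x ^ 3 := by
    intro h
    rcases hb2 with h1 | h1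
    · subst h1
      have h2 : ε 1 = 1 := map_one (epsHom hz ε hε)
      rw [h2] at h
      exact absurd h (by decide)
    · rw [h1, hxi]
  have hbr : b (x - x ^ 3) = x - x ^ 3 := by
    rcases hb2 with h1 | h1
    · rw [h1]
      rfl
    · rw [map_sub, map_pow, h1, hxi]
      linear_combination (x ^ 5 - x) * hx4
  have hgd : ∀ τ τ' : ℂ ≃ₐ[K] ℂ, τ x = τ' x → τ (x - x ^ 3) = τ' (x - x ^ 3) := by
    intro τ τ' h
    rw [map_sub, map_sub, map_pow, map_pow, h]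
  rcases Int.units_eq_one_or (ε c) with h1 | h1 <;> rcases Int.units_eq_one_or (ε b) with h2 | h2
  · have h3 := step hp0 hp1 hfac hz one_ne_zero (main b hb1 1 one_ne_zero (fun τ τ' _ => by rw [map_one, map_one])
      (by rw [h2, map_one]; simp) (by rw [h1, map_one]; simp)) hu hn (b := 0) (s := 1) (by simp)
    rw [sub_zero] at h3
    rw [h1, h3.neg_one_zpow]
  · have h3 := step hp0 hp1 hfac hz (pow_ne_zero 2 hx0) (main b hb1 (x ^ 2) (pow_ne_zero 2 hx0)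
      (fun τ τ' h => by rw [map_pow, map_pow, h])
      (by
        rw [h2, map_pow, hbx h2]
        simp only [Units.val_neg, Units.val_one, Int.cast_neg, Int.cast_one]
        linear_combination x ^ 2 * hx4)
      (by
        rw [h1, map_pow, hcx]
        simp)) hu hn (b := 0) (s := -1) (by
        simp only [Units.val_neg, Units.val_one, Int.cast_neg, Int.cast_one, zpow_zero]
        linear_combination hx4)
    rw [sub_zero] at h3
    rw [h1, h3.neg_one_zpow]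
  · have h3 := step hp0 hp1 hfac hz hr0 (main b hb1 (x - x ^ 3) hr0 hgd
      (by rw [h2, hbr]; simp)
      (by
        rw [h1, map_sub, map_pow, hcx]
        simp only [Units.val_neg, Units.val_one, Int.cast_neg, Int.cast_one]
        ring)) hu hn (b := 1) (s := 1) (by
        rw [hx2]
        simp)
    have h4 : Odd n := by
      obtain ⟨m, hm⟩ := h3
      exact ⟨m, by omega⟩
    rw [h1, h4.neg_one_zpow]
  · have hg0 : x ^ 2 * (x - x ^ 3) ≠ 0 := mul_ne_zero (pow_ne_zero 2 hx0) hr0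
    have h3 := step hp0 hp1 hfac hz hg0 (main b hb1 (x ^ 2 * (x - x ^ 3)) hg0
      (fun τ τ' h => by rw [map_mul, map_mul, hgd τ τ' h, map_pow, map_pow, h])
      (by
        rw [h2, map_mul, hbr, map_pow, hbx h2]
        simp only [Units.val_neg, Units.val_one, Int.cast_neg, Int.cast_one]
        linear_combination x ^ 2 * (x - x ^ 3) * hx4)
      (by
        rw [h1, map_mul, map_sub, map_pow, map_pow, hcx]
        simp only [Units.val_neg, Units.val_one, Int.cast_neg, Int.cast_one]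
        ring)) hu hn (b := 1) (s := -1) (by
        rw [mul_pow, hx2, ← pow_mul, hx4]
        simp)
    have h4 : Odd n := by
      obtain ⟨m, hm⟩ := h3
      exact ⟨m, by omega⟩
    rw [h1, h4.neg_one_zpow]

end Two

end Cfsg.Agent.H988.PR
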